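import Cfsg.Prelude.Def_Classical

/-!
Functoriality of `PSp` in the field.
-/

set_option autoImplicit false

namespace CfsgLib.Classical.PSpThree

open Matrix

/-- Change of field. -/
theorem psp_congr' {K L : Type*} [Field K] [Field L] (e : K ≃+* L) (m : ℕ) :
    Nonempty (Cfsg.PSp m K ≃* Cfsg.PSp m L) := by
  classical
  let f := e.mapMatrix (m := Fin m ⊕ Fin m)
  have hJ : f (Matrix.J (Fin m) K) = Matrix.J (Fin m) L := by
    ext i j
    rcases i with i | i <;> rcases j with j | j <;> simp [f, Matrix.J, Matrix.one_apply] <;>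
      split_ifs <;> simp
  have ht : ∀ A, f Aᵀ = (f A)ᵀ := fun A => rfl
  have hmem : ∀ A, A ∈ symplecticGroup (Fin m) K ↔ f A ∈ symplecticGroup (Fin m) L := fun A => by
    rw [SymplecticGroup.mem_iff, SymplecticGroup.mem_iff, ← hJ, ← ht, ← map_mul, ← map_mul, f.injective.eq_iff]
  let E : symplecticGroup (Fin m) K ≃* symplecticGroup (Fin m) L :=
    { toFun := fun A => ⟨f A.1, (hmem _).1 A.2⟩
      invFun := fun B => ⟨f.symm B.1, (hmem _).2 (by rw [f.apply_symm_apply]; exact B.2)⟩
      left_inv := fun A => Subtype.ext (f.symm_apply_apply A.1)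
      right_inv := fun B => Subtype.ext (f.apply_symm_apply B.1)
      map_mul' := fun A B => Subtype.ext (map_mul f A.1 B.1) }
  refine ⟨QuotientGroup.congr _ _ E ?_⟩
  ext B
  simp only [Subgroup.mem_map, Subgroup.mem_center_iff]
  constructor
  · rintro ⟨A, hA, rfl⟩ C
    obtain ⟨C, rfl⟩ := E.surjective C
    exact (map_mul E C A).symm.trans ((congrArg E (hA C)).trans (map_mul E A C))
  · intro h
    refine ⟨E.symm B, fun C => E.injective ?_, E.apply_symm_apply B⟩
    rw [map_mul, map_mul, E.apply_symm_apply]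
    exact h (E C)

end CfsgLib.Classical.PSpThree
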