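import Cfsg.Agent.Lib.Classical.PSpThree.Data
import Cfsg.Agent.Lib.Classical.SympMatrix
import Cfsg.Agent.Lib.Classical.HermMatrix

/-!
`PSp₄(3) ≅ PSU₄(2)`.
-/

set_option autoImplicit false
set_option linter.unusedSectionVars false

namespace CfsgLib.Classical.PSpThree

open Matrix CfsgLib.Classical

section Abstract

variable {G : Type*} [Group G] {F : Type*} [Field F] {ι : Type*} [Fintype ι] [DecidableEq ι] {N : ℕ}

theorem exists_action (ρ : G →* Matrix ι ι F) (p : Fin N → ι → F) (hp0 : ∀ i, p i ≠ 0)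
    (hp : ∀ i k (s : F), p i = s • p k → i = k) (S : Set G) (hS : Subgroup.closure S = ⊤)
    (hact : ∀ g ∈ S, ∀ i, ∃ k, ∃ s : F, ρ g *ᵥ p i = s • p k) :
    ∃ φ : G →* Equiv.Perm (Fin N), ∀ g i, ∃ s : F, ρ g *ᵥ p i = s • p (φ g i) := by
  classical
  have hall : ∀ g : G, ∀ i, ∃ k, ∃ s : F, ρ g *ᵥ p i = s • p k := by
    intro g
    have hg : g ∈ Subgroup.closure S := by rw [hS]; trivial
    induction hg using Subgroup.closure_induction with
    | mem x hx => exact hact x hx
    | one => exact fun i => ⟨i, 1, by rw [map_one, one_mulVec, one_smul]⟩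
    | mul a b _ _ ha hb =>
      intro i
      obtain ⟨k, s, hk⟩ := hb i
      obtain ⟨l, t, hl⟩ := ha k
      exact ⟨l, s * t, by rw [map_mul, ← mulVec_mulVec, hk, mulVec_smul, hl, smul_smul]⟩
    | inv a _ ha =>
      have hinj : Function.Injective fun i => (ha i).choose := by
        intro i j hij
        simp only at hij
        obtain ⟨s, hs⟩ := (ha i).choose_spec
        obtain ⟨t, ht⟩ := (ha j).choose_spec
        rw [hij] at hs
        have hrev : ∀ v, ρ a⁻¹ *ᵥ (ρ a *ᵥ v) = v := fun v => by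
          rw [mulVec_mulVec, ← map_mul, inv_mul_cancel, map_one, one_mulVec]
        have h1 := congrArg (ρ a⁻¹ *ᵥ ·) hs
        have h3 := congrArg (ρ a⁻¹ *ᵥ ·) ht
        simp only [hrev, mulVec_smul] at h1 h3
        have ht0 : t ≠ 0 := fun e => hp0 j (by rw [h3, e, zero_smul])
        refine hp i j (s / t) ?_
        rw [h3, smul_smul, div_mul_cancel₀ _ ht0]
        exact h1
      intro i
      obtain ⟨j, hj⟩ := (Finite.injective_iff_surjective.1 hinj) i
      simp only at hj
      obtain ⟨s, hs⟩ := (ha j).choose_spec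
      rw [hj] at hs
      have h1 := congrArg (ρ a⁻¹ *ᵥ ·) hs
      simp only [mulVec_mulVec, ← map_mul, inv_mul_cancel, map_one, one_mulVec, mulVec_smul] at h1
      have hs0 : s ≠ 0 := fun e => hp0 j (by rw [h1, e, zero_smul])
      exact ⟨j, s⁻¹, by rw [h1, smul_smul, inv_mul_cancel₀ hs0, one_smul]⟩
  choose π s hπ using hall
  have hu : ∀ g i k (t : F), ρ g *ᵥ p i = t • p k → π g i = k := by
    intro g i k t h
    rw [hπ g i] at h
    have hs0 : s g i ≠ 0 := fun e => by
      have h1 := congrArg (ρ g⁻¹ *ᵥ ·) (hπ g i)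
      simp only [mulVec_mulVec, ← map_mul, inv_mul_cancel, map_one, one_mulVec, e, zero_smul, mulVec_zero] at h1
      exact hp0 i h1
    exact hp _ k ((s g i)⁻¹ * t) (by rw [← smul_smul, ← h, smul_smul, inv_mul_cancel₀ hs0, one_smul])
  have hmul : ∀ g h i, π (g * h) i = π g (π h i) := fun g h i =>
    hu _ _ _ (s h i * s g (π h i)) (by rw [map_mul, ← mulVec_mulVec, hπ, mulVec_smul, hπ, smul_smul])
  have hone : ∀ i, π 1 i = i := fun i => hu _ _ _ 1 (by rw [map_one, one_mulVec, one_smul])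
  let perm : G → Equiv.Perm (Fin N) := fun g =>
    ⟨π g, π g⁻¹, fun i => by rw [← hmul, inv_mul_cancel, hone], fun i => by rw [← hmul, mul_inv_cancel, hone]⟩
  exact ⟨MonoidHom.mk' perm fun a b => Equiv.ext fun i => hmul a b i, fun g i => ⟨s g i, hπ g i⟩⟩

theorem range_eq_closure {H : Type*} [Group H] (φ : G →* H) {ι' : Type*} (g : ι' → G)
    (hg : Subgroup.closure (Set.range g) = ⊤) (c : ι' → H) (h : ∀ i, φ (g i) = c i) :
    φ.range = Subgroup.closure (Set.range c) := by
  rw [MonoidHom.range_eq_map, ← hg, MonoidHom.map_closure, ← Set.range_comp]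
  congr 2
  exact _root_.funext h

end Abstract

/-! The symplectic side. -/

/-- Coordinates. -/
def kVec (i : Fin 40) : Fin 2 ⊕ Fin 2 → ZMod 3 :=
  Sum.elim ![kPts i 0, kPts i 1] ![kPts i 2, kPts i 3]

/-- A transvection. -/
def tK (v x : Fin 2 ⊕ Fin 2 → ZMod 3) : Fin 2 ⊕ Fin 2 → ZMod 3 := fun k =>
  x k + (x (.inl 0) * -v (.inr 0) + x (.inl 1) * -v (.inr 1) + x (.inr 0) * v (.inl 0) +
    x (.inr 1) * v (.inl 1)) * v k

theorem kVec_ne : ∀ i, ∃ k, kVec i k ≠ 0 := by decide +kernel

theorem kVec_sep : ∀ i j, i ≠ j → ∀ s : ZMod 3, ∃ k, kVec i k ≠ s * kVec j k := by decide +kernel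

theorem kVec_cover : ∀ v : Fin 2 ⊕ Fin 2 → ZMod 3, (∃ k, v k ≠ 0) → ∃ i, ∃ s : ZMod 3, ∀ k, v k = s * kVec i k := by
  decide +kernel

theorem tK_perms : ∀ v i, (∀ k, tK (kVec v) (kVec i) k = kVec (perms v i) k) ∨
    (∀ k, tK (kVec v) (kVec i) k = - kVec (perms v i) k) := by decide +kernel

theorem tK_eq (v x : Fin 2 ⊕ Fin 2 → ZMod 3) : Cfsg.sympTransvection 2 v 1 *ᵥ x = tK v x := by
  rw [sympTransvection_mulVec, tv_apply, sympBil_apply, Cfsg.sympForm]
  funext k
  simp [tK, dotProduct, Fintype.sum_sum_type, Fin.sum_univ_two, Matrix.J, Matrix.mulVec, Matrix.one_apply]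
  left; ring

section Symplectic

local notation "Sp3" => symplecticGroup (Fin 2) (ZMod 3)

/-- The forty generators. -/
noncomputable def gK (v : Fin 40) : Sp3 := ⟨_, sympTransvection_mem 2 (kVec v) 1⟩

theorem closure_gK : Subgroup.closure (Set.range gK) = ⊤ := by
  rw [← closure_sympTransvection (F := ZMod 3) (m := 2)]
  refine le_antisymm (Subgroup.closure_mono ?_) ((Subgroup.closure_le _).2 ?_)
  · rintro _ ⟨v, rfl⟩
    exact ⟨kVec v, 1, rfl⟩
  · rintro A ⟨w, c, hA⟩
    by_cases hw : ∃ k, w k ≠ 0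
    swap
    · push Not at hw
      have : A = 1 := Subtype.ext (by
        rw [hA, show w = 0 from _root_.funext hw]; simp [Cfsg.sympTransvection])
      rw [this]; exact one_mem _
    obtain ⟨i, s, hs⟩ := kVec_cover w hw
    have hA' : A = gK i ^ (c * s * s).val := by
      have hp : ∀ n : ℕ, gK i ^ n = (spEquiv 2).symm (tv (sympBil_isAlt 2) (kVec i) n) := by
        intro n
        induction n with
        | zero => rw [pow_zero, Nat.cast_zero, tv_zero, map_one]
        | succ n ih =>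
          rw [pow_succ, ih, Nat.cast_succ, ← tv_mul, map_mul]
          congr 1
          exact Subtype.ext (sympTransvection_eq 2 _ _)
      rw [hp, ZMod.natCast_zmod_val]
      apply Subtype.ext
      rw [hA, sympTransvection_eq]
      rw [show w = s • kVec i from _root_.funext fun k => by rw [Pi.smul_apply, smul_eq_mul, hs k], tv_smul,
        show s * s * c = c * s * s by ring]
    rw [hA']
    exact pow_mem (Subgroup.subset_closure (Set.mem_range_self i)) _

theorem exists_psp :
    ∃ φ : Sp3 →* Equiv.Perm (Fin 40), φ.ker = Subgroup.center Sp3 ∧ Nat.card φ.range = 25920 ∧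
      ∃ c : Fin 40 → Equiv.Perm (Fin 40), (∀ v i, c v i = perms v i) ∧ φ.range = Subgroup.closure (Set.range c) := by
  classical
  let ρ : Sp3 →* Matrix (Fin 2 ⊕ Fin 2) (Fin 2 ⊕ Fin 2) (ZMod 3) := Submonoid.subtype _
  have hp0 : ∀ i, kVec i ≠ 0 := fun i e => by
    obtain ⟨k, hk⟩ := kVec_ne i
    exact hk (congrFun e k)
  have hp : ∀ i j (s : ZMod 3), kVec i = s • kVec j → i = j := fun i j s e => by
    by_contra h
    obtain ⟨k, hk⟩ := kVec_sep i j h s
    exact hk (congrFun e k)
  have himg : ∀ v i, ∃ s : ZMod 3, ρ (gK v) *ᵥ kVec i = s • kVec (perms v i) := by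
    intro v i
    have he : ρ (gK v) *ᵥ kVec i = tK (kVec v) (kVec i) := tK_eq _ _
    rcases tK_perms v i with h | h
    · exact ⟨1, by rw [he, one_smul]; exact _root_.funext h⟩
    · exact ⟨-1, by rw [he, neg_one_smul]; exact _root_.funext h⟩
  obtain ⟨φ, hφ⟩ := exists_action ρ kVec hp0 hp _ closure_gK (by
    rintro _ ⟨v, rfl⟩ i
    exact ⟨_, himg v i⟩)
  have hgen : ∀ v i, φ (gK v) i = perms v i := by
    intro v i
    obtain ⟨s, hs⟩ := hφ (gK v) i
    obtain ⟨t, ht⟩ := himg v i
    rw [hs] at ht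
    have hs0 : s ≠ 0 := by
      intro e
      rw [e, zero_smul] at hs
      have h1 := congrArg (ρ (gK v)⁻¹ *ᵥ ·) hs
      simp only [mulVec_mulVec, ← map_mul, inv_mul_cancel, map_one, one_mulVec, mulVec_zero] at h1
      exact hp0 i h1
    exact hp _ _ (s⁻¹ * t) (by rw [← smul_smul, ← ht, smul_smul, inv_mul_cancel₀ hs0, one_smul])
  have hneg1 : (-1 : Matrix (Fin 2 ⊕ Fin 2) (Fin 2 ⊕ Fin 2) (ZMod 3)) ∈ Sp3 :=
    SymplecticGroup.neg_mem (one_mem _)
  have hcen : Subgroup.center Sp3 = Subgroup.zpowers ⟨-1, hneg1⟩ := by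
    refine le_antisymm (fun A hA => ?_) ((Subgroup.zpowers_le).2 (Subgroup.mem_center_iff.2 fun B => Subtype.ext ?_))
    · rcases sp_center_eq _ hA with h | h
      · rw [show A = 1 from Subtype.ext h]; exact one_mem _
      · rw [show A = ⟨-1, hneg1⟩ from Subtype.ext h]; exact Subgroup.mem_zpowers _
    · show B.1 * -1 = -1 * B.1
      simp
  have hker : φ.ker = Subgroup.center Sp3 := by
    refine le_antisymm (fun A hA => ?_) (fun A hA => ?_)
    · rw [MonoidHom.mem_ker] at hA
      have hline : ∀ x : Fin 2 ⊕ Fin 2 → ZMod 3, ∃ s : ZMod 3, ρ A *ᵥ x = s • x := by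
        intro x
        by_cases hx : ∃ k, x k ≠ 0
        swap
        · push Not at hx
          exact ⟨0, by rw [show x = 0 from _root_.funext hx]; simp⟩
        obtain ⟨i, t, ht⟩ := kVec_cover x hx
        obtain ⟨s, hs⟩ := hφ A i
        rw [hA] at hs
        refine ⟨s, ?_⟩
        rw [show x = t • kVec i from _root_.funext ht, mulVec_smul, hs, smul_comm]
        rfl
      obtain ⟨a, ha⟩ := LinearMap.exists_eq_smul_id_of_forall_notLinearIndependent
        (f := Matrix.mulVecLin (ρ A)) (fun x => by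
          obtain ⟨s, hs⟩ := hline x
          rw [LinearIndependent.pair_iff]
          push Not
          exact ⟨s, -1, by simp [hs], fun _ => by decide⟩)
      refine Subgroup.mem_center_iff.2 fun B => Subtype.ext ?_
      have hAm : A.1 = a • (1 : Matrix (Fin 2 ⊕ Fin 2) (Fin 2 ⊕ Fin 2) (ZMod 3)) := by
        refine Matrix.ext_of_mulVec_single fun i => ?_
        have := LinearMap.congr_fun ha (Pi.single i 1)
        simp only [Matrix.mulVecLin_apply] at this
        rw [smul_mulVec, one_mulVec]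
        exact this
      show B.1 * A.1 = A.1 * B.1
      rw [hAm, Matrix.mul_smul, Matrix.smul_mul, mul_one, one_mul]
    · rw [MonoidHom.mem_ker]
      refine Equiv.ext fun i => ?_
      obtain ⟨s, hs⟩ := hφ A i
      have hs0 : s ≠ 0 := by
        intro e
        rw [e, zero_smul] at hs
        have h1 := congrArg (ρ A⁻¹ *ᵥ ·) hs
        simp only [mulVec_mulVec, ← map_mul, inv_mul_cancel, map_one, one_mulVec, mulVec_zero] at h1
        exact hp0 i h1
      rcases sp_center_eq _ hA with h | h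
      · refine (hp _ _ s⁻¹ ?_)
        show kVec (φ A i) = s⁻¹ • kVec i
        have hs' : kVec i = s • kVec (φ A i) := by rw [← hs]; show _ = A.1 *ᵥ _; rw [h, one_mulVec]
        conv_rhs => rw [hs']
        rw [smul_smul, inv_mul_cancel₀ hs0, one_smul]
      · refine (hp _ _ (-s⁻¹) ?_)
        show kVec (φ A i) = (-s⁻¹) • kVec i
        have hs' : -kVec i = s • kVec (φ A i) := by rw [← hs]; show _ = A.1 *ᵥ _; rw [h, neg_mulVec, one_mulVec]
        rw [neg_smul, ← smul_neg, hs', smul_smul, inv_mul_cancel₀ hs0, one_smul]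
  refine ⟨φ, hker, ?_, fun v => φ (gK v), hgen, range_eq_closure φ gK closure_gK _ fun _ => rfl⟩
  have h1 := Subgroup.card_mul_index φ.ker
  rw [Subgroup.index_ker, card_symplecticGroup, ZMod.card, hker, hcen, Nat.card_zpowers] at h1
  have ho : orderOf (⟨-1, hneg1⟩ : Sp3) = 2 := by
    refine orderOf_eq_prime ?_ ?_
    · refine Subtype.ext ?_
      simp [pow_two]
    · intro e
      have := congrFun (congrFun (congrArg Subtype.val e) (.inl 0)) (.inl 0)
      revert this; simp; decide
  rw [ho] at h1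
  rw [show 3 ^ (2 ^ 2) * ∏ i ∈ Finset.range 2, (3 ^ (2 * (i + 1)) - 1) = 51840 by
    norm_num [Finset.prod_range_succ]] at h1
  omega

end Symplectic

/-! The unitary side. -/

/-- Sum in the code. -/
def qAdd : Fin 4 → Fin 4 → Fin 4 := ![![0, 1, 2, 3], ![1, 0, 3, 2], ![2, 3, 0, 1], ![3, 2, 1, 0]]

/-- Product in the code. -/
def qMul : Fin 4 → Fin 4 → Fin 4 := ![![0, 0, 0, 0], ![0, 1, 2, 3], ![0, 2, 3, 1], ![0, 3, 1, 2]]

/-- A pseudo-reflection times a scalar. -/
def rU (u x : Fin 4 → Fin 4) : Fin 4 → Fin 4 := fun k =>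
  qMul 3 (qAdd (x k) (qMul (qMul 3 (qAdd (qAdd (qAdd (qMul (x 0) (qMul (u 0) (u 0))) (qMul (x 1) (qMul (u 1) (u 1))))
    (qMul (x 2) (qMul (u 2) (u 2)))) (qMul (x 3) (qMul (u 3) (u 3))))) (u k)))

theorem uPts_ne : ∀ i, ∃ k, uPts i k ≠ 0 := by decide +kernel

theorem uPts_sep : ∀ i j, i ≠ j → ∀ s : Fin 4, ∃ k, uPts i k ≠ qMul s (uPts j k) := by decide +kernel

theorem uPts_norm : ∀ i, qAdd (qAdd (qAdd (qMul (uPts i 0) (qMul (uPts i 0) (uPts i 0)))
    (qMul (uPts i 1) (qMul (uPts i 1) (uPts i 1)))) (qMul (uPts i 2) (qMul (uPts i 2) (uPts i 2))))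
    (qMul (uPts i 3) (qMul (uPts i 3) (uPts i 3))) = 1 := by decide +kernel

theorem rU_perms : ∀ v i, ∃ s : Fin 4, ∀ k, rU (uPts v) (uPts i) k = qMul s (uPts (perms v i) k) := by
  decide +kernel

section Unitary

variable {F : Type*} [Field F] [Fintype F]

theorem exists_code (hF : Fintype.card F = 4) :
    ∃ e : Fin 4 → F, Function.Bijective e ∧ e 0 = 0 ∧ e 1 = 1 ∧ (∀ a b, e (qAdd a b) = e a + e b) ∧
      (∀ a b, e (qMul a b) = e a * e b) ∧ (2 : F) = 0 := by
  classical
  have h4 : (4 : F) = 0 := by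
    have := Nat.cast_card_eq_zero F
    rw [hF] at this; exact_mod_cast this
  have h2 : (2 : F) = 0 := by
    rw [show (4 : F) = 2 * 2 by norm_num] at h4
    exact mul_self_eq_zero.1 h4
  obtain ⟨w, hw⟩ : ∃ w : F, w ∉ ({0, 1} : Finset F) := by
    by_contra h
    push Not at h
    have : Fintype.card F ≤ 2 := by
      rw [← Finset.card_univ]
      exact (Finset.card_le_card fun t _ => h t).trans Finset.card_le_two
    omega
  simp only [Finset.mem_insert, Finset.mem_singleton, not_or] at hw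
  have h3 : w ^ 3 = 1 := by
    have := FiniteField.pow_card_sub_one_eq_one w hw.1
    rwa [hF] at this
  have hw2 : w * w = w + 1 := by
    have : (w - 1) * (w * w + w + 1) = 0 := by linear_combination h3
    have h := (mul_eq_zero.1 this).resolve_left (sub_ne_zero.2 hw.2)
    linear_combination h - (w + 1) * h2
  let e : Fin 4 → F := ![0, 1, w, w + 1]
  have hadd : ∀ a b, e (qAdd a b) = e a + e b := by
    intro a b
    fin_cases a <;> fin_cases b <;> simp [e, qAdd] <;>
      first
      | ring1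
      | linear_combination h2
      | linear_combination -h2
      | linear_combination w * h2
      | linear_combination -(w * h2)
      | linear_combination (w + 1) * h2
      | linear_combination -((w + 1) * h2)
  have hmul : ∀ a b, e (qMul a b) = e a * e b := by
    intro a b
    fin_cases a <;> fin_cases b <;> simp [e, qMul] <;>
      first
      | ring1
      | linear_combination hw2
      | linear_combination -hw2
      | linear_combination -hw2 - w * h2
      | linear_combination -hw2 - (w + 1) * h2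
      | linear_combination -hw2 - h2
  have hinj : Function.Injective e := by
    intro a b h
    by_contra hab
    have h1' : ∀ a b : Fin 4, a ≠ b → qAdd a b ≠ 0 := by decide
    have h1 : qAdd a b ≠ 0 := h1' a b hab
    have h0 : e (qAdd a b) = 0 := by rw [hadd, h, ← two_mul, h2, zero_mul]
    have : ∀ c : Fin 4, c ≠ 0 → ∃ d, qMul c d = 1 := by decide
    obtain ⟨d, hd⟩ := this _ h1
    have := hmul (qAdd a b) d
    rw [hd, h0, zero_mul] at this
    simp [e] at this
  exact ⟨e, (Fintype.bijective_iff_injective_and_card e).2 ⟨hinj, by simp [hF]⟩, rfl, rfl, hadd, hmul, h2⟩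

theorem iso (hF : Fintype.card F = 4) : Nonempty (Cfsg.PSp 2 (ZMod 3) ≃* Cfsg.PSU 4 F 2) := by
  classical
  obtain ⟨φ, hker, hcard, c, hc, hrange⟩ := exists_psp
  obtain ⟨e, hbij, e0, e1, hadd, hmul, h2⟩ := exists_code hF
  have hF2 : Fintype.card F = 2 ^ 2 := by rw [hF]; norm_num
  have hq : ∀ x : F, x ^ 4 = x := fun x => by rw [← hF]; exact FiniteField.pow_card x
  let pv : Fin 40 → Fin 4 → F := fun i k => e (uPts i k)
  let bv : Fin 40 → Fin 4 → F := fun i k => e (uPts i k) * e (uPts i k)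
  let M : Fin 40 → Matrix (Fin 4) (Fin 4) F := fun v =>
    e 3 • (1 + (e 3 • Matrix.vecMulVec (pv v) (bv v)))
  have hn : ∀ v, bv v ⬝ᵥ pv v = 1 := by
    intro v
    have := congrArg e (uPts_norm v)
    simp only [hadd, hmul, e1] at this
    simp only [dotProduct, Fin.sum_univ_four, pv, bv]
    linear_combination this
  have hw3 : e 3 * e 3 = e 2 := by rw [← hmul]; rfl
  have hw23 : e 2 * e 3 = 1 := by rw [← hmul, ← e1]; rfl
  have hw13 : 1 + e 3 = e 2 := by rw [← e1, ← hadd]; rfl
  have hMv : ∀ v x, M v *ᵥ x = e 3 • (x + (e 3 * (bv v ⬝ᵥ x)) • pv v) := by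
    intro v x
    simp only [M]
    rw [smul_mulVec, add_mulVec, one_mulVec, smul_mulVec, vecMulVec_mulVec, op_smul_eq_smul, smul_smul]
  have hdet : ∀ v, (M v).det = 1 := by
    intro v
    simp only [M]
    rw [det_smul, Fintype.card_fin, ← Matrix.smul_vecMulVec, Matrix.vecMulVec_eq Unit,
      Matrix.det_one_add_replicateCol_mul_replicateRow, dotProduct_smul, hn, smul_eq_mul, mul_one, hw13,
      show e 3 ^ 4 * e 2 = (e 3 * e 3) * (e 3 * (e 2 * e 3)) by ring, hw3, hw23, mul_one, hw23]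
  have hpres : ∀ v x y, Cfsg.hermForm 4 F 2 (M v *ᵥ x) (M v *ᵥ y) = Cfsg.hermForm 4 F 2 x y := by
    intro v x y
    rw [hMv, hMv]
    set s := bv v ⬝ᵥ x with hs
    set t := bv v ⬝ᵥ y with ht
    have e3 : e 3 ^ 3 = 1 := by rw [show e 3 ^ 3 = e 3 * e 3 * e 3 by ring, hw3, hw23]
    have hfr : ∀ a b : F, (a + b) ^ 2 = a ^ 2 + b ^ 2 := fun a b => by linear_combination (a * b) * h2
    have hy : ∑ k, pv v k * y k ^ 2 = t ^ 2 := by
      rw [ht]
      simp only [dotProduct, Fin.sum_univ_four, bv, pv, hfr, mul_pow]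
      simp only [show ∀ a : F, a ^ 2 * a ^ 2 = a from fun a => by rw [← pow_add]; exact hq a]
    have hx : ∑ k, x k * pv v k ^ 2 = s := by
      rw [hs]
      simp only [dotProduct, bv, pv]
      exact Finset.sum_congr rfl fun k _ => by ring
    have hp : ∑ k, pv v k * pv v k ^ 2 = 1 := by
      rw [← hn v]
      simp only [dotProduct, bv, pv]
      exact Finset.sum_congr rfl fun k _ => by ring
    have hk : ∀ k, (e 3 • (x + (e 3 * s) • pv v)) k * (e 3 • (y + (e 3 * t) • pv v)) k ^ 2 =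
        x k * y k ^ 2 + (e 3 ^ 2 * t ^ 2) * (x k * pv v k ^ 2) + (e 3 * s) * (pv v k * y k ^ 2) +
          (s * t ^ 2) * (pv v k * pv v k ^ 2) := fun k => by
      simp only [Pi.smul_apply, Pi.add_apply, smul_eq_mul, mul_pow, hfr]
      linear_combination (x k * y k ^ 2 + (e 3 ^ 2 * t ^ 2) * (x k * pv v k ^ 2) +
        (e 3 * s) * (pv v k * y k ^ 2) + (e 3 ^ 3 + 1) * (s * t ^ 2) * (pv v k * pv v k ^ 2)) * e3
    simp only [Cfsg.hermForm]
    rw [Finset.sum_congr rfl fun k _ => hk k, Finset.sum_add_distrib, Finset.sum_add_distrib,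
      Finset.sum_add_distrib, ← Finset.mul_sum, ← Finset.mul_sum, ← Finset.mul_sum, hx, hy, hp]
    linear_combination (s * t ^ 2) * hw3 + (s * t^2) * (hw13) + (s * t^2 * e 2) * h2
  let g : Fin 40 → Cfsg.SU 4 F 2 := fun v => ⟨⟨M v, hdet v⟩, fun x y => hpres v x y⟩
  let H : Subgroup (Cfsg.SU 4 F 2) := Subgroup.closure (Set.range g)
  let g' : Fin 40 → H := fun v => ⟨g v, Subgroup.subset_closure (Set.mem_range_self v)⟩
  have hgen : Subgroup.closure (Set.range g') = ⊤ := by
    rw [eq_top_iff]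
    intro a _
    have ha : a.1 ∈ Subgroup.map H.subtype (Subgroup.closure (Set.range g')) := by
      rw [MonoidHom.map_closure, ← Set.range_comp]
      exact a.2
    obtain ⟨b, hb, hab⟩ := ha
    rwa [← Subtype.ext (hab : b.1 = a.1)]
  let ρ : H →* Matrix (Fin 4) (Fin 4) F := (Cfsg.slToMat 4 F).comp ((Cfsg.SU 4 F 2).subtype.comp H.subtype)
  have hp0 : ∀ i, pv i ≠ 0 := fun i hi => by
    obtain ⟨k, hk⟩ := uPts_ne i
    exact hk (hbij.1 ((congrFun hi k).trans e0.symm))
  have hp : ∀ i j (s : F), pv i = s • pv j → i = j := fun i j s hij => by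
    by_contra h
    obtain ⟨s', rfl⟩ := hbij.2 s
    obtain ⟨k, hk⟩ := uPts_sep i j h s'
    exact hk (hbij.1 ((congrFun hij k).trans (hmul _ _).symm))
  have himg : ∀ v i, ∃ s : F, ρ (g' v) *ᵥ pv i = s • pv (c v i) := by
    intro v i
    obtain ⟨s, hs⟩ := rU_perms v i
    refine ⟨e s, ?_⟩
    show M v *ᵥ pv i = _
    rw [hMv, hc]
    funext k
    have := congrArg e (hs k)
    simp only [rU, hadd, hmul] at this
    simp only [Pi.smul_apply, Pi.add_apply, smul_eq_mul, dotProduct, Fin.sum_univ_four, pv, bv]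
    linear_combination this
  obtain ⟨ψ, hψ⟩ := exists_action ρ pv hp0 hp _ hgen (by
    rintro _ ⟨v, rfl⟩ i
    exact ⟨_, himg v i⟩)
  have hψg : ∀ v, ψ (g' v) = c v := fun v => Equiv.ext fun i => by
    obtain ⟨s, hs⟩ := hψ (g' v) i
    obtain ⟨t, ht⟩ := himg v i
    rw [hs] at ht
    have hs0 : s ≠ 0 := by
      intro h
      rw [h, zero_smul] at hs
      have h1 := congrArg (ρ (g' v)⁻¹ *ᵥ ·) hs
      simp only [mulVec_mulVec, ← map_mul, inv_mul_cancel, map_one, one_mulVec, mulVec_zero] at h1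
      exact hp0 i h1
    exact hp _ _ (s⁻¹ * t) (by rw [← smul_smul, ← ht, smul_smul, inv_mul_cancel₀ hs0, one_smul])
  have hr : ψ.range = φ.range := by rw [hrange]; exact range_eq_closure ψ g' hgen c hψg
  have hSU : Nat.card (Cfsg.SU 4 F 2) = 25920 := by
    have := card_SU_mul (n := 4) (F := F) (q := 2) hF2 (by norm_num)
    rw [card_GU hF2] at this
    rw [show (2 : ℕ) ^ (4 * (4 - 1) / 2) *
      ∏ i ∈ Finset.range 4, (if Even i then 2 ^ (i + 1) + 1 else 2 ^ (i + 1) - 1) = 77760 by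
      norm_num [Finset.prod_range_succ, Nat.even_iff]] at this
    omega
  have : Finite (Cfsg.SU 4 F 2) := Nat.finite_of_card_ne_zero (by rw [hSU]; norm_num)
  have h1 : 25920 ≤ Nat.card H := by
    rw [← hcard, ← hr]
    exact Nat.card_le_card_of_surjective ψ.rangeRestrict ψ.rangeRestrict_surjective
  have hH : H = ⊤ := by
    refine Subgroup.eq_top_of_card_eq _ (le_antisymm (Subgroup.card_le_card_group _) ?_)
    rw [hSU]; exact h1
  have hinj : Function.Injective ψ := by
    have hb : Function.Bijective ψ.rangeRestrict := (Nat.bijective_iff_surjective_and_card _).2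
      ⟨ψ.rangeRestrict_surjective, by rw [hr, hcard, hH, Subgroup.card_top, hSU]⟩
    intro a b hab
    exact hb.1 (Subtype.ext hab)
  have hZ : Subgroup.center (Cfsg.SU 4 F 2) = ⊥ := Subgroup.eq_bot_of_card_eq _ (by
    rw [card_center_SU hF2 (by norm_num)]; norm_num)
  exact ⟨((((QuotientGroup.quotientMulEquivOfEq hker.symm).trans (QuotientGroup.quotientKerEquivRange φ)).trans
    (MulEquiv.subgroupCongr hr.symm)).trans (MonoidHom.ofInjective hinj).symm).trans
    (((MulEquiv.subgroupCongr hH).trans Subgroup.topEquiv).trans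
      ((QuotientGroup.quotientBot (G := Cfsg.SU 4 F 2)).symm.trans (QuotientGroup.quotientMulEquivOfEq hZ.symm)))⟩

end Unitary

end CfsgLib.Classical.PSpThree
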